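import Groth.Agent.ZarEtLib.Basic
import Groth.Agent.EtTraceLib.LiftCmp
import Groth.Agent.Hensel.Basic
import Groth.Prelude.Def_CohTop
import Mathlib.CategoryTheory.Sites.ConstantSheaf
import Mathlib.AlgebraicGeometry.Morphisms.ClosedImmersion

/-!
# Étale cohomology of constant sheaves as cohomology of the underlying space
-/

set_option autoImplicit false
set_option backward.isDefEq.respectTransparency false
set_option linter.style.haveILetI false
set_option maxHeartbeats 1000000
set_option synthInstance.maxHeartbeats 400000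

universe u

open CategoryTheory CategoryTheory.Limits AlgebraicGeometry Opposite TopologicalSpace CategoryTheory.Abelian

noncomputable section

namespace Groth.Agent.GabberConstLib

/-- The change of universe preserves sheafification. -/
theorem preservesSheafification_ulift (T : Type u) [TopologicalSpace T] : (Opens.grothendieckTopology T).PreservesSheafification AddCommGrpCat.uliftFunctor.{u + 1, u} := by
  haveI h1 : ∀ (J : MulticospanShape.{u, u}), HasLimitsOfShape (WalkingMulticospan J) AddCommGrpCat.{u} := fun J => inferInstance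
  haveI h2 : ∀ (J : MulticospanShape.{u, u}), HasLimitsOfShape (WalkingMulticospan J) AddCommGrpCat.{u + 1} := fun J =>
    haveI : HasLimitsOfSize.{u, u} AddCommGrpCat.{u + 1} := hasLimitsOfSizeShrink.{u, u, u + 1, u + 1} _
    inferInstance
  haveI h3 : ∀ V : Opens T, HasColimitsOfShape ((Opens.grothendieckTopology T).Cover V)ᵒᵖ AddCommGrpCat.{u} := fun V => inferInstance
  haveI h4 : ∀ V : Opens T, HasColimitsOfShape ((Opens.grothendieckTopology T).Cover V)ᵒᵖ AddCommGrpCat.{u + 1} := fun V => inferInstance
  haveI h5 : ∀ V : Opens T, PreservesColimitsOfShape ((Opens.grothendieckTopology T).Cover V)ᵒᵖ AddCommGrpCat.uliftFunctor.{u + 1, u} := fun V => inferInstance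
  haveI h6 : PreservesLimitsOfSize.{u, u} AddCommGrpCat.uliftFunctor.{u + 1, u} := inferInstance
  haveI h7 : PreservesLimitsOfSize.{u, u} (forget AddCommGrpCat.{u + 1}) := inferInstance
  haveI h8 : PreservesLimitsOfSize.{u, u} (forget AddCommGrpCat.{u}) := inferInstance
  haveI h9 : ∀ V : Opens T, PreservesColimitsOfShape ((Opens.grothendieckTopology T).Cover V)ᵒᵖ (forget AddCommGrpCat.{u}) := fun V => inferInstance
  haveI h10 : ∀ V : Opens T, PreservesColimitsOfShape ((Opens.grothendieckTopology T).Cover V)ᵒᵖ (forget AddCommGrpCat.{u + 1}) := fun V => inferInstance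
  haveI h11 : ∀ (V : Opens T) (W : (Opens.grothendieckTopology T).Cover V) (P : (Opens T)ᵒᵖ ⥤ AddCommGrpCat.{u}),
      PreservesLimit (W.index P).multicospan AddCommGrpCat.uliftFunctor.{u + 1, u} := fun V W P => inferInstance
  haveI h12 : (forget AddCommGrpCat.{u}).ReflectsIsomorphisms := inferInstance
  haveI h13 : (forget AddCommGrpCat.{u+1}).ReflectsIsomorphisms := inferInstance
  exact GrothendieckTopology.instPreservesSheafification (J := Opens.grothendieckTopology T) AddCommGrpCat.uliftFunctor.{u + 1, u}

/-- The constant sheaves in two universes. -/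
def liftConstIso (T : Type u) [TopologicalSpace T] (M : Type) [AddCommGroup M] :
    (constantSheaf (Opens.grothendieckTopology T) AddCommGrpCat.{u + 1}).obj (AddCommGrpCat.of (ULift.{u + 1} M)) ≅
      (EtVanish.liftSh (X := T)).obj
        ((constantSheaf (Opens.grothendieckTopology T) AddCommGrpCat.{u}).obj (AddCommGrpCat.of (ULift.{u} M))) :=
  (constantSheaf (Opens.grothendieckTopology T) AddCommGrpCat.{u + 1}).mapIso
      ((AddEquiv.ulift.trans (AddEquiv.ulift.symm.trans AddEquiv.ulift.symm)).toAddCommGrpIso :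
        AddCommGrpCat.of (ULift.{u + 1} M) ≅
          AddCommGrpCat.uliftFunctor.{u + 1, u}.obj (AddCommGrpCat.of (ULift.{u} M))) ≪≫
    (haveI := preservesSheafification_ulift T
    (constantCommuteCompose (Opens.grothendieckTopology T) AddCommGrpCat.uliftFunctor.{u + 1, u}).app _).symm

/-- The constant sheaf on the étale site restricts to the constant sheaf. -/
theorem nonempty_resZar_const {S : Scheme.{u}} [EtZar.ZarCont S]
    (hS : ∀ s : S, EtCoh.IsStrictlyHenselianLocalRing (S.presheaf.stalk s)) (A : AddCommGrpCat.{u + 1}) :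
    Nonempty ((EtZar.resZar S).obj ((constantSheaf S.smallEtaleTopology AddCommGrpCat.{u + 1}).obj A) ≅
      (constantSheaf (Opens.grothendieckTopology S) AddCommGrpCat.{u + 1}).obj A) := by
  haveI := ZarEtLib.isEquivalence_resZar hS
  let R := EtZar.resZar S
  let e := R.asEquivalence
  let gz : EtZar.Ab S ⥤ AddCommGrpCat.{u + 1} :=
    (sheafSections (Opens.grothendieckTopology S) AddCommGrpCat.{u + 1}).obj (op ⊤)
  let α : R ⋙ gz ≅ EtCore.gsec S :=
    NatIso.ofComponents (fun G => G.obj.mapIso (ZarEtLib.topIso (S := S)).op.symm)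
      (fun {G G'} φ => (φ.hom.naturality _).symm)
  exact ⟨(Adjunction.leftAdjointUniq (((EtCore.constAdj S).comp e.toAdjunction).ofNatIsoRight
      (Functor.isoWhiskerLeft e.inverse α.symm ≪≫ (Functor.associator _ _ _).symm ≪≫
        Functor.isoWhiskerRight e.counitIso gz ≪≫ gz.leftUnitor))
    (constantSheafAdj (Opens.grothendieckTopology S) AddCommGrpCat.{u + 1} (T := ⊤) isTerminalTop)).app A⟩

/-- Étale cohomology of a constant sheaf is the cohomology of the space, if the local rings are
strictly henselian. -/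
theorem nonempty_H_const_equiv {S : Scheme.{u}}
    (hS : ∀ s : S, EtCoh.IsStrictlyHenselianLocalRing (S.presheaf.stalk s)) [EtZar.ZarCont S]
    (M : Type) [AddCommGroup M] (q : ℕ) :
    Nonempty (EtCoh.H S (EtCoh.const S M) q ≃
      CohTop.H (CohTop.const (S.carrier : TopCat.{u}) (ULift.{u} M)) q) := by
  obtain ⟨e₁⟩ := ZarEtLib.nonempty_H_equiv hS (EtCoh.const S M) q
  obtain ⟨e₂⟩ := nonempty_resZar_const hS (AddCommGrpCat.of (ULift.{u + 1} M))
  haveI := (EtTraceLib.GaCmp.preservesFinite_liftSh (T := S)).1
  haveI := (EtTraceLib.GaCmp.preservesFinite_liftSh (T := S)).2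
  haveI : EnoughInjectives (Sheaf (Opens.grothendieckTopology S) AddCommGrpCat.{u}) :=
    haveI : IsGrothendieckAbelian.{u} (Sheaf (Opens.grothendieckTopology S) AddCommGrpCat.{u}) :=
      Sheaf.isGrothendieckAbelian_of_essentiallySmall _ _
    inferInstance
  let e₃ := e₂ ≪≫ liftConstIso S M
  let pe : EtZar.H ((EtZar.resZar S).obj (EtCoh.const S M)) q ≃
      EtZar.H ((EtVanish.liftSh (X := S)).obj (CohTop.const (S.carrier : TopCat.{u}) (ULift.{u} M))) q :=
    { toFun := fun x => Sheaf.H.map e₃.hom q x
      invFun := fun x => Sheaf.H.map e₃.inv q x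
      left_inv := fun x => by simp only [Sheaf.H.map_apply, Ext.comp_assoc_of_second_deg_zero, Ext.mk₀_comp_mk₀, Iso.hom_inv_id, Ext.comp_mk₀_id]
      right_inv := fun x => by simp only [Sheaf.H.map_apply, Ext.comp_assoc_of_second_deg_zero, Ext.mk₀_comp_mk₀, Iso.inv_hom_id, Ext.comp_mk₀_id] }
  exact ⟨(e₁.toEquiv.trans pe).trans
    (Equiv.ofBijective _ (EtTraceLib.GaCmp.liftMap_bijective q _)).symm⟩

theorem isSepClosed_of_ringEquiv {k k' : Type u} [Field k] [Field k'] [IsSepClosed k] (e : k ≃+* k') : IsSepClosed k' := by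
  refine IsSepClosed.of_exists_root _ fun p hpm hpi hps => ?_
  have hd : (p.map e.symm.toRingHom).degree ≠ 0 := by
    rw [Polynomial.degree_map]
    exact (Polynomial.degree_pos_of_irreducible hpi).ne'
  obtain ⟨x, hx⟩ := IsSepClosed.exists_root (p.map e.symm.toRingHom) hd hps.map
  refine ⟨e x, ?_⟩
  have h := Polynomial.eval_map_apply (p := p.map e.symm.toRingHom) (f := e.toRingHom) x
  rw [Polynomial.map_map, RingEquiv.toRingHom_comp_symm_toRingHom, Polynomial.map_id, hx.eq_zero, map_zero] at h
  exact h

/-- Closed subschemes of a scheme with strictly henselian local rings have strictly henselian local rings. -/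
theorem strictlyHenselian_of_isClosedImmersion {Z X : Scheme.{u}} (i : Z ⟶ X) [IsClosedImmersion i] (z : Z)
    (h : EtCoh.IsStrictlyHenselianLocalRing (X.presheaf.stalk (i z))) :
    EtCoh.IsStrictlyHenselianLocalRing (Z.presheaf.stalk z) := by
  obtain ⟨hh, hsep⟩ := h
  haveI := hh
  haveI := hsep
  let φ := (i.stalkMap z).hom
  have hφ : Function.Surjective φ := i.stalkMap_surjective z
  haveI : HenselianRing (X.presheaf.stalk (i z)) (IsLocalRing.maximalIdeal _) :=
    Hensel.henselianRing_maximalIdeal_iff.2 hh
  haveI hZ : HenselianLocalRing (Z.presheaf.stalk z) := by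
    refine Hensel.henselianRing_maximalIdeal_iff.1 ?_
    have hmax : (IsLocalRing.maximalIdeal (X.presheaf.stalk (i z))).map φ =
        IsLocalRing.maximalIdeal (Z.presheaf.stalk z) :=
      IsLocalRing.map_maximalIdeal_of_surjective φ hφ
    exact hmax ▸ Hensel.map_surjective hφ
  refine ⟨hZ, ?_⟩
  haveI : IsLocalHom φ := inferInstance
  let g : IsLocalRing.ResidueField (X.presheaf.stalk (i z)) ≃+* IsLocalRing.ResidueField (Z.presheaf.stalk z) :=
    RingEquiv.ofBijective (IsLocalRing.ResidueField.map φ) ⟨(IsLocalRing.ResidueField.map φ).injective, fun y => by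
      obtain ⟨b, rfl⟩ := IsLocalRing.residue_surjective y
      obtain ⟨a, rfl⟩ := hφ b
      exact ⟨IsLocalRing.residue _ a, IsLocalRing.ResidueField.map_residue φ a⟩⟩
  exact isSepClosed_of_ringEquiv g

end Groth.Agent.GabberConstLib
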