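import Groth.Agent.GabberConstLib.Spaces
import Groth.Agent.GabberConstLib.Bridge
import Groth.Agent.EtTraceLib.PicEtale
import Mathlib.AlgebraicGeometry.IdealSheaf.Subscheme

/-!
# Constant sheaves on closed subschemes with strictly henselian local rings
-/

set_option autoImplicit false
set_option backward.isDefEq.respectTransparency false
set_option linter.style.haveILetI false
set_option maxHeartbeats 800000

universe u

open CategoryTheory CategoryTheory.Limits AlgebraicGeometry Opposite TopologicalSpace

noncomputable section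

namespace Groth.Agent.GabberConstLib

/-- If all closed subschemes have vanishing first cohomology, all higher cohomology vanishes. -/
theorem subsingleton_H_et_const (S : Scheme.{u}) [CompactSpace S] [QuasiSeparatedSpace S]
    (hS : ∀ s : S, EtCoh.IsStrictlyHenselianLocalRing (S.presheaf.stalk s)) (M : Type) [AddCommGroup M]
    (h1 : ∀ (W : Scheme.{u}) (j : W ⟶ S), IsClosedImmersion j → Subsingleton (EtCoh.H W (EtCoh.const W M) 1))
    (q : ℕ) (hq : 1 ≤ q) : Subsingleton (EtCoh.H S (EtCoh.const S M) q) := by
  obtain ⟨q, rfl⟩ : ∃ m, q = m + 1 := ⟨q - 1, by omega⟩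
  haveI := EtTraceLib.zarCont S
  obtain ⟨e⟩ := nonempty_H_const_equiv hS M (q + 1)
  haveI : CompactSpace (S.carrier : TopCat.{u}) := inferInstanceAs (CompactSpace S)
  haveI : QuasiSeparatedSpace (S.carrier : TopCat.{u}) := inferInstanceAs (QuasiSeparatedSpace S)
  haveI := subsingleton_H_const (T := S.carrier) (ULift.{u} M) (fun C hC => by
    let I := Scheme.IdealSheafData.vanishingIdeal (X := S) ⟨C, hC⟩
    have hr : Set.range I.subschemeι = C := by
      rw [Scheme.IdealSheafData.range_subschemeι]; rfl
    haveI := EtTraceLib.zarCont I.subscheme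
    haveI := h1 I.subscheme I.subschemeι inferInstance
    obtain ⟨e₁⟩ := nonempty_H_const_equiv
      (fun w => strictlyHenselian_of_isClosedImmersion I.subschemeι w (hS _)) M 1
    let ψ : I.subscheme.carrier ≃ₜ TopCat.of C :=
      I.subschemeι.isClosedEmbedding.isEmbedding.toHomeomorph.trans (Homeomorph.setCongr hr)
    obtain ⟨e₂⟩ := nonempty_H_homeo_equiv (Y := I.subscheme.carrier) (T := TopCat.of C) ψ (ULift.{u} M) 1
    exact (e₁.trans e₂.symm).symm.subsingleton) q
  exact e.subsingleton

/-- Gabber: closed subschemes of affine normal schemes with separably closed function field. -/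
theorem subsingleton_H_of_normal_sepClosed
    (h1 : ∀ {Z X : Scheme.{u}} [IsAffine X] [IsIntegral X], (∀ x : X, IsIntegrallyClosed (X.presheaf.stalk x)) →
      IsSepClosed X.functionField → ∀ (i : Z ⟶ X) [IsClosedImmersion i] (M : Type) [AddCommGroup M] [Finite M],
      Subsingleton (EtCoh.H Z (EtCoh.const Z M) 1))
    (hh : ∀ (X : Scheme.{u}) [IsIntegral X], (∀ x : X, IsIntegrallyClosed (X.presheaf.stalk x)) →
      IsSepClosed X.functionField → ∀ x : X, EtCoh.IsStrictlyHenselianLocalRing (X.presheaf.stalk x))
    {Z X : Scheme.{u}} [IsAffine X] [IsIntegral X]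
    (hN : ∀ x : X, IsIntegrallyClosed (X.presheaf.stalk x)) [hs : IsSepClosed X.functionField]
    (i : Z ⟶ X) [IsClosedImmersion i] (M : Type) [AddCommGroup M] [Finite M] (q : ℕ) (hq : 1 ≤ q) :
    Subsingleton (EtCoh.H Z (EtCoh.const Z M) q) := by
  haveI : IsAffine Z := isAffine_of_isAffineHom i
  exact subsingleton_H_et_const Z (fun z => strictlyHenselian_of_isClosedImmersion i z (hh X hN hs _)) M
    (fun W j _ => h1 hN hs (j ≫ i) M) q hq

end Groth.Agent.GabberConstLib
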