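import Groth.Agent.TopDescent.LocalExact
import Groth.Agent.CohColim.CompactOpens

/-!
# Cohomology of a sheaf on closed subsets of a spectral space
-/

set_option autoImplicit false
set_option backward.isDefEq.respectTransparency false
set_option linter.style.haveILetI false
set_option linter.unusedSectionVars false
set_option synthInstance.maxHeartbeats 400000
set_option maxHeartbeats 800000

universe u

open CategoryTheory Limits Opposite TopologicalSpace CategoryTheory.Abelian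

noncomputable section

namespace Groth.Agent.GabberConstLib

open CohBase TopDescent

variable {T : TopCat.{u}} (F : CohTop.Ab T)

theorem push_zero_near {Z : Set T} (hZ : IsClosed Z) {W : Opens T} (c : Sec (P F Z) W) {x : T} (hx : x ∈ W)
    (hxZ : x ∉ Z) : ∃ (V : Opens T) (hVW : V ≤ W), x ∈ V ∧ res (P F Z).obj hVW c = 0 :=
  ⟨W ⊓ ⟨Zᶜ, hZ.isOpen_compl⟩, inf_le_left, ⟨hx, hxZ⟩,
    push_sec_eq_zero _ (Set.disjoint_left.2 fun y (hy : y ∈ W ⊓ ⟨Zᶜ, hZ.isOpen_compl⟩) => hy.2) _⟩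

/-- A section of a smaller restriction comes from the sheaf, compatibly. -/
theorem r_app {Z Z' : Set T} (hZ : IsClosed Z) (hZ' : IsClosed Z') (h : Z' ⊆ Z) (W : Opens T) (a : Sec F W) :
    secHom _ _ W (r F hZ hZ' h) (secHom _ _ W (η F Z) a) = secHom _ _ W (η F Z') a := by
  rw [← secHom_comp, η_r]

theorem eq_zero_of_η_eq_zero {Z₁ Z₂ : Set T} (h₁ : IsClosed Z₁) (h₂ : IsClosed Z₂) {W : Opens T} (a : Sec F W)
    {x : T} (hx : x ∈ W) (ha₁ : secHom _ _ W (η F Z₁) a = 0) (ha₂ : secHom _ _ W (η F Z₂) a = 0)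
    (hxZ : x ∈ Z₁ ∪ Z₂) : ∃ (V : Opens T) (hVW : V ≤ W), x ∈ V ∧ res F.obj hVW a = 0 :=
  hxZ.elim (η_eq_zero F h₁ a ha₁ hx) (η_eq_zero F h₂ a ha₂ hx)

theorem res_res' {G : CohTop.Ab T} {W V V' : Opens T} (h : V ≤ W) (h' : V' ≤ V) (s : Sec G W) :
    res G.obj h' (res G.obj h s) = res G.obj (h'.trans h) s := res_res G.obj h h' s

section MV

variable {Z₁ Z₂ : Set T} (h₁ : IsClosed Z₁) (h₂ : IsClosed Z₂)

/-- The kernel of the restriction to the second part. -/
abbrev K₁ : CohTop.Ab T := kernel (r F (h₁.union h₂) h₂ Set.subset_union_right)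

/-- The kernel of the restriction to the intersection. -/
abbrev K₂ : CohTop.Ab T := kernel (r F h₁ (h₁.inter h₂) Set.inter_subset_left)

/-- The comparison of the kernels. -/
def φ : K₁ F h₁ h₂ ⟶ K₂ F h₁ h₂ :=
  kernel.lift _ (kernel.ι _ ≫ r F (h₁.union h₂) h₁ Set.subset_union_left) (by
    rw [Category.assoc, r_r, ← r_r F (h₁.union h₂) h₂ (h₁.inter h₂) Set.subset_union_right Set.inter_subset_right,
      kernel.condition_assoc, zero_comp])

theorem φ_ι : φ F h₁ h₂ ≫ kernel.ι _ = kernel.ι _ ≫ r F (h₁.union h₂) h₁ Set.subset_union_left :=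
  kernel.lift_ι _ _ _

theorem exists_kernel_lift {A B : CohTop.Ab T} (g : A ⟶ B) (W : Opens T) (s : Sec A W) (h : secHom _ _ W g s = 0) :
    ∃ k, secHom _ _ W (kernel.ι g) k = s := by
  have h0 : (secEquiv W A).symm s ≫ g = 0 :=
    (secEquiv_symm_comp W s g).trans ((congrArg _ h).trans (map_zero _))
  exact ⟨secEquiv W _ (kernel.lift _ _ h0), (secEquiv_comp W _ (kernel.ι g)).symm.trans
    ((congrArg _ (kernel.lift_ι _ _ _)).trans (AddEquiv.apply_symm_apply _ _))⟩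

theorem kernel_ι_injective {A B : CohTop.Ab T} (g : A ⟶ B) (W : Opens T) :
    Function.Injective (secHom _ _ W (kernel.ι g)) := fun a b h => by
  apply (secEquiv W _).symm.injective
  rw [← cancel_mono (kernel.ι g), secEquiv_symm_comp, secEquiv_symm_comp]
  exact congrArg _ h

theorem mono_φ : Mono (φ F h₁ h₂) := by
  refine Preadditive.mono_of_cancel_zero _ fun {R} g hg => ?_
  rw [← cancel_mono (kernel.ι _), zero_comp]
  refine hom_ext_sec fun W s => ?_
  set t := secHom _ _ W (g ≫ kernel.ι (r F (h₁.union h₂) h₂ Set.subset_union_right)) s with ht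
  have e₂ : secHom _ _ W (r F (h₁.union h₂) h₂ Set.subset_union_right) t = 0 := by
    rw [ht, ← secHom_comp, Category.assoc, kernel.condition, comp_zero, map_zero]; rfl
  have e₁ : secHom _ _ W (r F (h₁.union h₂) h₁ Set.subset_union_left) t = 0 := by
    rw [ht, ← secHom_comp, Category.assoc, ← φ_ι, ← Category.assoc, hg, zero_comp, map_zero]; rfl
  rw [map_zero]
  show t = 0
  refine eq_zero_of_locally _ fun x hx => ?_
  obtain ⟨V, hVW, hxV, a, ha⟩ := η_surjective F (h₁.union h₂) t hx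
  by_cases hxZ : x ∈ Z₁ ∪ Z₂
  · obtain ⟨V', hV', hxV', hV0⟩ := eq_zero_of_η_eq_zero F h₁ h₂ a hxV
      (by rw [← r_app F (h₁.union h₂) h₁ Set.subset_union_left, ha, secHom_res, e₁, map_zero])
      (by rw [← r_app F (h₁.union h₂) h₂ Set.subset_union_right, ha, secHom_res, e₂, map_zero]) hxZ
    refine ⟨V', hV'.trans hVW, hxV', ?_⟩
    rw [← res_res' hVW hV', ← ha, ← secHom_res, hV0, map_zero]
  · exact push_zero_near F (h₁.union h₂) t hx hxZ

theorem epi_φ : Epi (φ F h₁ h₂) := by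
  refine epi_of_local _ fun W c x hx => ?_
  set s := secHom _ _ W (kernel.ι (r F h₁ (h₁.inter h₂) Set.inter_subset_left)) c with hs
  have hs0 : secHom _ _ W (r F h₁ (h₁.inter h₂) Set.inter_subset_left) s = 0 := by
    rw [hs, ← secHom_comp, kernel.condition, map_zero]; rfl
  suffices h : ∃ (V : Opens T) (hVW : V ≤ W), x ∈ V ∧ ∃ t,
      secHom _ _ V (r F (h₁.union h₂) h₂ Set.subset_union_right) t = 0 ∧
      secHom _ _ V (r F (h₁.union h₂) h₁ Set.subset_union_left) t = res (P F Z₁).obj hVW s by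
    obtain ⟨V, hVW, hxV, t, ht₂, ht₁⟩ := h
    obtain ⟨k, hk⟩ := exists_kernel_lift _ V t ht₂
    refine ⟨V, hVW, hxV, k, kernel_ι_injective _ V ?_⟩
    show secHom _ _ V (kernel.ι _) (secHom _ _ V (φ F h₁ h₂) k) = _
    rw [← secHom_comp, φ_ι, secHom_comp, hk, ht₁, hs, ← secHom_res]
  by_cases hx₁ : x ∈ Z₁
  · obtain ⟨V, hVW, hxV, a, ha⟩ := η_surjective F h₁ s hx
    by_cases hx₂ : x ∈ Z₂
    · obtain ⟨V', hV', hxV', hV0⟩ := η_eq_zero F (h₁.inter h₂) a
        (by rw [← r_app F h₁ (h₁.inter h₂) Set.inter_subset_left, ha, secHom_res, hs0, map_zero]) hxV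
        ⟨hx₁, hx₂⟩
      refine ⟨V', hV'.trans hVW, hxV', 0, map_zero _, ?_⟩
      rw [← res_res' hVW hV', ← ha, ← secHom_res, hV0, map_zero, map_zero]
    · refine ⟨V ⊓ ⟨Z₂ᶜ, h₂.isOpen_compl⟩, inf_le_left.trans hVW, ⟨hxV, hx₂⟩,
        secHom _ _ _ (η F (Z₁ ∪ Z₂)) (res F.obj inf_le_left a),
        push_sec_eq_zero _ (Set.disjoint_left.2 fun y (hy : y ∈ V ⊓ ⟨Z₂ᶜ, h₂.isOpen_compl⟩) => hy.2) _, ?_⟩
      rw [r_app F (h₁.union h₂) h₁ Set.subset_union_left, secHom_res, ha, res_res']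
  · obtain ⟨V, hVW, hxV, h0⟩ := push_zero_near F h₁ s hx hx₁
    exact ⟨V, hVW, hxV, 0, map_zero _, by rw [map_zero, h0]⟩

/-- A class killed on two closed subsets is killed on their union. -/
theorem eq_zero_of_union (q : ℕ) (hq : Subsingleton (HU (⊤ : Opens T) (P F (Z₁ ∩ Z₂)) q))
    (ξ : HU (⊤ : Opens T) (P F (Z₁ ∪ Z₂)) (q + 1))
    (e₁ : hmap ⊤ (r F (h₁.union h₂) h₁ Set.subset_union_left) (q + 1) ξ = 0)
    (e₂ : hmap ⊤ (r F (h₁.union h₂) h₂ Set.subset_union_right) (q + 1) ξ = 0) : ξ = 0 := by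
  haveI := mono_φ F h₁ h₂
  haveI := epi_φ F h₁ h₂
  haveI : IsIso (φ F h₁ h₂) := isIso_of_mono_of_epi _
  haveI hepi : ∀ {Z Z' : Set T} (hZ : IsClosed Z) (hZ' : IsClosed Z') (h : Z' ⊆ Z), Epi (r F hZ hZ' h) :=
    fun hZ hZ' h => by
      haveI := epi_η F hZ'
      exact epi_of_epi_fac (η_r F hZ hZ' h)
  let S₁ := ShortComplex.mk _ _ (kernel.condition (r F (h₁.union h₂) h₂ Set.subset_union_right))
  let S₂ := ShortComplex.mk _ _ (kernel.condition (r F h₁ (h₁.inter h₂) Set.inter_subset_left))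
  haveI : Epi S₁.g := hepi (h₁.union h₂) h₂ Set.subset_union_right
  haveI : Epi S₂.g := hepi h₁ (h₁.inter h₂) Set.inter_subset_left
  have hS₁ : S₁.ShortExact := { exact := ShortComplex.exact_of_f_is_kernel S₁ (kernelIsKernel _) }
  have hS₂ : S₂.ShortExact := { exact := ShortComplex.exact_of_f_is_kernel S₂ (kernelIsKernel _) }
  rw [hmap_apply] at e₁ e₂
  obtain ⟨k, hk⟩ := Ext.covariant_sequence_exact₂ _ hS₁ ξ e₂
  have hk' : (k.comp (Ext.mk₀ (φ F h₁ h₂)) (add_zero (q + 1))).comp (Ext.mk₀ S₂.f) (add_zero (q + 1)) = 0 := by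
    rw [Ext.comp_assoc_of_second_deg_zero, Ext.mk₀_comp_mk₀, φ_ι, ← Ext.mk₀_comp_mk₀,
      ← Ext.comp_assoc_of_second_deg_zero, hk, e₁]
  obtain ⟨y, hy⟩ := Ext.covariant_sequence_exact₁ _ hS₂ _ hk' rfl
  rw [@Subsingleton.elim _ hq y 0, Ext.zero_comp] at hy
  have hk0 : k = 0 := by
    have := congrArg (fun z => Ext.comp z (Ext.mk₀ (inv (φ F h₁ h₂))) (add_zero (q + 1))) hy.symm
    simpa [Ext.comp_assoc_of_second_deg_zero] using this
  rw [← hk, hk0, Ext.zero_comp]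

end MV

section Chain

variable (c : Set (Set T)) (hc : ∀ Z ∈ c, IsClosed Z) (hchain : IsChain (· ⊆ ·) c) (hne : c.Nonempty)

/-- The index of a chain, ordered by reverse inclusion. -/
abbrev Idx : Type u := {Z : (Set T)ᵒᵈ // OrderDual.ofDual Z ∈ c}

/-- The restrictions to the members of a chain. -/
def diag : Idx c ⥤ CohTop.Ab T where
  obj Z := P F (OrderDual.ofDual Z.1)
  map {Z Z'} g := r F (hc _ Z.2) (hc _ Z'.2) g.le
  map_id Z := r_self F (hc _ Z.2)
  map_comp {Z Z' Z''} g g' := (r_r F (hc _ Z.2) (hc _ Z'.2) (hc _ Z''.2) g.le g'.le).symm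

include hchain in
theorem directed_idx : IsDirected (Idx c) (· ≤ ·) := ⟨fun A B => by
  rcases hchain.total A.2 B.2 with h | h
  · exact ⟨A, le_rfl, h⟩
  · exact ⟨B, h, le_rfl⟩⟩

/-- The restriction to the intersection as a cocone. -/
def cocone : Cocone (diag F c hc) where
  pt := P F (⋂₀ c)
  ι :=
    { app := fun Z => r F (hc _ Z.2) (isClosed_sInter hc) (Set.sInter_subset_of_mem Z.2)
      naturality := fun Z Z' g => by
        refine Eq.trans ?_ (Category.comp_id _).symm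
        exact r_r F (hc _ Z.2) (hc _ Z'.2) (isClosed_sInter hc) g.le (Set.sInter_subset_of_mem Z'.2) }

variable {c} {hc}

theorem η_ι (s : Cocone (diag F c hc)) (A B : Idx c) (h : IsDirected (Idx c) (· ≤ ·)) :
    η F (OrderDual.ofDual A.1) ≫ s.ι.app A = η F (OrderDual.ofDual B.1) ≫ s.ι.app B := by
  obtain ⟨C, hA, hB⟩ := h.directed A B
  rw [← s.w (homOfLE hA), ← s.w (homOfLE hB)]
  show η F _ ≫ r F (hc _ A.2) (hc _ C.2) hA ≫ _ = η F _ ≫ r F (hc _ B.2) (hc _ C.2) hB ≫ _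
  rw [η_r_assoc, η_r_assoc]

theorem kernel_ι_eq_zero (h : IsDirected (Idx c) (· ≤ ·)) (s : Cocone (diag F c hc)) (A : Idx c) :
    kernel.ι (η F (⋂₀ c)) ≫ η F (OrderDual.ofDual A.1) ≫ s.ι.app A = 0 := by
  refine hom_ext_sec fun W t => ?_
  refine (eq_zero_of_locally _ fun x hx => ?_).trans (by rw [map_zero]; rfl)
  set a := secHom _ _ W (kernel.ι (η F (⋂₀ c))) t with hadef
  have ha : secHom _ _ W (η F (⋂₀ c)) a = 0 := by
    rw [hadef, ← secHom_comp, kernel.condition, map_zero]; rfl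
  by_cases hxZ : x ∈ ⋂₀ c
  · obtain ⟨V, hVW, hxV, hV⟩ := η_eq_zero F (isClosed_sInter hc) a ha hx hxZ
    refine ⟨V, hVW, hxV, ?_⟩
    rw [secHom_comp, ← hadef, ← secHom_res, hV, map_zero]
  · obtain ⟨Z, hZc, hxZ'⟩ : ∃ Z ∈ c, x ∉ Z := by simpa [Set.mem_sInter] using hxZ
    let B : Idx c := ⟨OrderDual.toDual Z, hZc⟩
    refine ⟨W ⊓ ⟨Zᶜ, (hc Z hZc).isOpen_compl⟩, inf_le_left, ⟨hx, hxZ'⟩, ?_⟩
    rw [η_ι F s A B h, secHom_comp, secHom_comp, ← secHom_res]
    refine Eq.trans (congrArg _ ?_) (map_zero _)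
    exact push_sec_eq_zero (Z := Z) _ (Set.disjoint_left.2 fun y (hy : y ∈ W ⊓ ⟨Zᶜ, (hc Z hZc).isOpen_compl⟩) => hy.2) _

variable (c hc)

/-- The restriction to the intersection of a chain is the colimit of the restrictions. -/
def isColimitCocone (A : Idx c) (h : IsDirected (Idx c) (· ≤ ·)) : IsColimit (cocone F c hc) :=
  haveI := epi_η F (isClosed_sInter hc)
  { desc := fun s => Abelian.epiDesc (η F (⋂₀ c)) (η F (OrderDual.ofDual A.1) ≫ s.ι.app A) (kernel_ι_eq_zero F h s A)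
    fac := fun s B => by
      haveI := epi_η F (hc _ B.2)
      rw [← cancel_epi (η F (OrderDual.ofDual B.1))]
      show η F _ ≫ r F (hc _ B.2) (isClosed_sInter hc) (Set.sInter_subset_of_mem B.2) ≫ _ = _
      rw [η_r_assoc, Abelian.comp_epiDesc, η_ι F s A B h]
    uniq := fun s m hm => by
      rw [← cancel_epi (η F (⋂₀ c)), Abelian.comp_epiDesc, ← hm A]
      show _ = η F _ ≫ r F (hc _ A.2) (isClosed_sInter hc) (Set.sInter_subset_of_mem A.2) ≫ _
      rw [η_r_assoc] }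

variable [CompactSpace T] [QuasiSeparatedSpace T] [PrespectralSpace T]

/-- The cohomology of the whole space as a functor. -/
abbrev HUF (T : TopCat.{u}) (q : ℕ) : CohTop.Ab T ⥤ AddCommGrpCat.{u} :=
  (extFunctor.{u} q).obj (op (freeAb (⊤ : Opens T)))

theorem preserves_HUF (q : ℕ) (Λ : Type u) [SmallCategory Λ] [IsFiltered Λ] :
    PreservesColimitsOfShape Λ (HUF T q) :=
  haveI := CohColim.preserves_cohomology_compactOpen T (⊤ : Opens T) isCompact_univ q Λ
  preservesColimitsOfShape_of_natIso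
    (NatIso.ofComponents (fun _ => Iso.refl _) (fun f => by ext x; rfl) :
      (Sheaf.cohomologyPresheafFunctor (Opens.grothendieckTopology T) q).flip.obj (op (⊤ : Opens T)) ≅ HUF T q)

theorem exists_zero_of_colimit {J : Type u} [SmallCategory J] [IsFiltered J] {D : J ⥤ CohTop.Ab T} {s : Cocone D}
    (hs : IsColimit s) (q : ℕ) (A : J) (y : HU (⊤ : Opens T) (D.obj A) q) (hy : hmap ⊤ (s.ι.app A) q y = 0) :
    ∃ (B : J) (f : A ⟶ B), hmap ⊤ (D.map f) q y = 0 := by
  haveI := preserves_HUF (T := T) q J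
  let K := extFunctor.{u} (C := CohTop.Ab T) q
  have hcol : IsColimit ((HUF T q).mapCocone s) := isColimitOfPreserves (HUF T q) hs
  have key := fun z z' => (Concrete.isColimit_rep_eq_iff_exists (D ⋙ HUF T q) hcol (i := A) (j := A) z z').1
  have h1 : ((HUF T q).mapCocone s).ι.app A y = ((HUF T q).mapCocone s).ι.app A 0 := by
    rw [map_zero]
    exact hy
  obtain ⟨B, f, g, hfg⟩ := key y 0 h1
  refine ⟨B, f, ?_⟩
  rw [map_zero] at hfg
  exact hfg

include hchain hne in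
/-- A class killed on the intersection of a chain is killed on a member. -/
theorem exists_eq_zero (q : ℕ) {Z₀ : Set T} (hZ₀ : IsClosed Z₀) (hle : ∀ Z ∈ c, Z ⊆ Z₀)
    (ξ : HU (⊤ : Opens T) (P F Z₀) q)
    (hξ : hmap ⊤ (r F hZ₀ (isClosed_sInter hc) ((Set.sInter_subset_of_mem hne.choose_spec).trans (hle _ hne.choose_spec))) q ξ = 0) :
    ∃ (Z : Set T) (hZ : Z ∈ c), hmap ⊤ (r F hZ₀ (hc Z hZ) (hle Z hZ)) q ξ = 0 := by
  let A : Idx c := ⟨OrderDual.toDual hne.choose, hne.choose_spec⟩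
  have hd := directed_idx c hchain
  haveI := hd
  haveI : Nonempty (Idx c) := ⟨A⟩
  let y : HU (⊤ : Opens T) (P F hne.choose) q :=
    hmap ⊤ (r F hZ₀ (hc _ hne.choose_spec) (hle _ hne.choose_spec)) q ξ
  have hy : hmap ⊤ (r F (hc _ hne.choose_spec) (isClosed_sInter hc) (Set.sInter_subset_of_mem hne.choose_spec)) q y = 0 := by
    rw [← hξ, ← r_r F hZ₀ (hc _ hne.choose_spec) (isClosed_sInter hc) (hle _ hne.choose_spec)
      (Set.sInter_subset_of_mem hne.choose_spec)]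
    simp only [y, hmap_apply, ← Ext.mk₀_comp_mk₀]
    exact Ext.comp_assoc_of_second_deg_zero _ _ _ _
  obtain ⟨B, f, hf⟩ := exists_zero_of_colimit (isColimitCocone F c hc A hd) q A y hy
  refine ⟨OrderDual.ofDual B.1, B.2, ?_⟩
  rw [← r_r F hZ₀ (hc _ hne.choose_spec) (hc _ B.2) (hle _ hne.choose_spec) f.le]
  refine Eq.trans ?_ hf
  show _ = hmap ⊤ (r F (hc _ A.2) (hc _ B.2) f.le) q y
  simp only [y, hmap_apply, ← Ext.mk₀_comp_mk₀]
  exact (Ext.comp_assoc_of_second_deg_zero _ _ _ _).symm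

end Chain

section Main

variable [CompactSpace T] [QuasiSeparatedSpace T] [PrespectralSpace T]

/-- Vanishing on irreducible closed sets and in degree one gives vanishing in all positive degrees. -/
theorem subsingleton_HU_closed (h1 : ∀ Z : Set T, IsClosed Z → Subsingleton (HU (⊤ : Opens T) (P F Z) 1))
    (hirr : ∀ Z : Set T, IsClosed Z → IsPreirreducible Z → ∀ q : ℕ, Subsingleton (HU (⊤ : Opens T) (P F Z) (q + 1))) :
    ∀ (q : ℕ) (Z : Set T), IsClosed Z → Subsingleton (HU (⊤ : Opens T) (P F Z) (q + 1)) := by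
  intro q
  induction q with
  | zero => exact h1
  | succ q ih =>
    intro Z₀ hZ₀
    refine subsingleton_of_forall_eq 0 fun ξ => by_contra fun hξ => ?_
    let S : Set (Set T) := {Z | ∃ (hZ : IsClosed Z) (h : Z ⊆ Z₀), hmap ⊤ (r F hZ₀ hZ h) (q + 2) ξ ≠ 0}
    have hmem : Z₀ ∈ S := ⟨hZ₀, le_rfl, by rw [r_self, hmap_apply, Ext.comp_mk₀_id]; exact hξ⟩
    have hz : ∀ c ⊆ S, IsChain (· ⊆ ·) c → c.Nonempty → ∃ lb ∈ S, ∀ s ∈ c, lb ⊆ s := by
      intro c hcS hchain hne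
      have hcl : ∀ Z ∈ c, IsClosed Z := fun Z hZ => (hcS hZ).1
      refine ⟨⋂₀ c, ⟨isClosed_sInter hcl, (Set.sInter_subset_of_mem hne.choose_spec).trans (hcS hne.choose_spec).2.1,
        fun h0 => ?_⟩, fun Z hZ => Set.sInter_subset_of_mem hZ⟩
      obtain ⟨Z, hZ, h⟩ := exists_eq_zero F c hcl hchain hne (q + 2) hZ₀ (fun Z hZ => (hcS hZ).2.1) ξ h0
      exact (hcS hZ).2.2 h
    obtain ⟨M, -, hM⟩ := zorn_superset_nonempty S hz Z₀ hmem
    · obtain ⟨hMc, hM₀, hMξ⟩ := hM.prop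
      by_cases hirrM : IsPreirreducible M
      · exact hMξ (@Subsingleton.elim _ (hirr M hMc hirrM (q + 1)) _ _)
      · rw [isPreirreducible_iff_isClosed_union_isClosed] at hirrM
        simp only [not_forall, not_or, exists_prop] at hirrM
        obtain ⟨A, B, hA, hB, hsub, hMA, hMB⟩ := hirrM
        have e : M = (M ∩ A) ∪ (M ∩ B) := by rw [← Set.inter_union_distrib_left, Set.inter_eq_left.2 hsub]
        have hsmall : ∀ A' : Set T, IsClosed A' → ¬ M ⊆ A' → ∀ (h : IsClosed (M ∩ A')),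
            hmap ⊤ (r F hZ₀ h (Set.inter_subset_left.trans hM₀)) (q + 2) ξ = 0 := fun A' _ hMA' h => by
          by_contra hne0
          exact hMA' (fun x hx => (hM.le_of_le (y := M ∩ A') ⟨h, _, hne0⟩ Set.inter_subset_left hx).2)
        have hcomb : ∀ (N : Set T) (hN : IsClosed N) (hN₀ : N ⊆ Z₀) (_ : N = (M ∩ A) ∪ (M ∩ B)),
            hmap ⊤ (r F hZ₀ hN hN₀) (q + 2) ξ = 0 := by
          rintro N hN hN₀ rfl
          refine eq_zero_of_union F (hMc.inter hA) (hMc.inter hB) (q + 1)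
            (ih _ ((hMc.inter hA).inter (hMc.inter hB))) _ ?_ ?_
          · rw [← hsmall A hA hMA (hMc.inter hA), ← r_r F hZ₀ hN (hMc.inter hA) hN₀ Set.subset_union_left]
            simp only [hmap_apply, ← Ext.mk₀_comp_mk₀]
            exact Ext.comp_assoc_of_second_deg_zero _ _ _ _
          · rw [← hsmall B hB hMB (hMc.inter hB), ← r_r F hZ₀ hN (hMc.inter hB) hN₀ Set.subset_union_right]
            simp only [hmap_apply, ← Ext.mk₀_comp_mk₀]
            exact Ext.comp_assoc_of_second_deg_zero _ _ _ _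
        exact hMξ (hcomb M hMc hM₀ e)

end Main

end Groth.Agent.GabberConstLib
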