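import Groth.Agent.GabberConstLib.Main
import Mathlib.RingTheory.IntegralClosure.IntegrallyClosed
import Mathlib.RingTheory.Localization.Integral
import Mathlib.FieldTheory.IsAlgClosed.AlgebraicClosure
import Mathlib.AlgebraicGeometry.FunctionField

/-!
# Integral covers by closed subschemes of normal schemes with algebraically closed function field
-/

set_option autoImplicit false
set_option backward.isDefEq.respectTransparency false
set_option linter.style.haveILetI false
set_option maxHeartbeats 1000000

universe u

open CategoryTheory CategoryTheory.Limits AlgebraicGeometry Opposite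

noncomputable section

namespace Groth.Agent.GabberConstLib

theorem isIntegrallyClosed_stalk_spec (D : Type u) [CommRing D] [IsDomain D] [IsIntegrallyClosed D]
    (y : Spec (CommRingCat.of D)) : IsIntegrallyClosed ((Spec (CommRingCat.of D)).presheaf.stalk y) := by
  haveI : y.asIdeal.IsPrime := y.isPrime
  haveI : IsIntegrallyClosed (Localization.AtPrime y.asIdeal) :=
    isIntegrallyClosed_of_isLocalization (Localization.AtPrime y.asIdeal) y.asIdeal.primeCompl
      y.asIdeal.primeCompl_le_nonZeroDivisors
  exact IsIntegrallyClosed.of_equiv (StructureSheaf.stalkIso D y).toRingEquiv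

theorem isSepClosed_functionField_spec (D : Type u) [CommRing D] [IsDomain D] (K : Type u) [Field K] [Algebra D K]
    [IsFractionRing D K] [IsSepClosed K] : IsSepClosed (Spec (CommRingCat.of D)).functionField := by
  let R := CommRingCat.of D
  haveI : IsDomain R := inferInstanceAs (IsDomain D)
  letI : Algebra D (Spec R).functionField := instAlgebraCarrierFunctionFieldSpec R
  haveI : IsFractionRing D (Spec R).functionField := functionField_isFractionRing_of_affine R
  exact isSepClosed_of_ringEquiv ((IsLocalization.algEquiv (nonZeroDivisors D) K (Spec R).functionField).toRingEquiv)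

theorem surjective_spec_of_lying_over {P R D : Type u} [CommRing P] [CommRing R] [CommRing D] [Algebra P D]
    [Algebra.IsIntegral P D] (hinj : Function.Injective (algebraMap P D)) (θ : P →+* R) (hθ : Function.Surjective θ)
    (J : Ideal D) (hJ : J = (RingHom.ker θ).map (algebraMap P D)) (f : R →+* (D ⧸ J))
    (hf : f.comp θ = (Ideal.Quotient.mk J).comp (algebraMap P D)) :
    Function.Surjective (PrimeSpectrum.comap f) := by
  intro p
  haveI : (Ideal.comap θ p.asIdeal).IsPrime := Ideal.IsPrime.comap θ
  obtain ⟨q, -, hqprime, hqc⟩ := Ideal.exists_ideal_over_prime_of_isIntegral (Ideal.comap θ p.asIdeal) (⊥ : Ideal D)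
    (by rw [← RingHom.ker_eq_comap_bot, (RingHom.injective_iff_ker_eq_bot _).1 hinj]; exact bot_le)
  have hJq : J ≤ q := hJ ▸ Ideal.map_le_iff_le_comap.2 (fun a ha => by
    rw [hqc]
    show θ a ∈ p.asIdeal
    rw [RingHom.mem_ker.1 ha]
    exact zero_mem _)
  haveI := hqprime
  refine ⟨⟨q.map (Ideal.Quotient.mk J), Ideal.map_isPrime_of_surjective Ideal.Quotient.mk_surjective
    (by rwa [Ideal.mk_ker])⟩, PrimeSpectrum.ext (Ideal.comap_injective_of_surjective θ hθ ?_)⟩
  show Ideal.comap θ (Ideal.comap f (q.map (Ideal.Quotient.mk J))) = Ideal.comap θ p.asIdeal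
  rw [Ideal.comap_comap, hf, ← Ideal.comap_comap,
    Ideal.comap_map_of_surjective _ Ideal.Quotient.mk_surjective, ← RingHom.ker_eq_comap_bot, Ideal.mk_ker,
    sup_eq_left.2 hJq, hqc]

/-- Every affine scheme has an integral surjective cover which is a closed subscheme of the spectrum of a
normal domain with algebraically closed fraction field. -/
theorem exists_integral_cover (R : Type u) [CommRing R] :
    ∃ (X' Y : Scheme.{u}) (π : X' ⟶ Spec (CommRingCat.of R)) (i : X' ⟶ Y) (_ : IsAffine Y) (_ : IsIntegral Y),
      IsIntegralHom π ∧ Surjective π ∧ IsClosedImmersion i ∧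
      (∀ y : Y, IsIntegrallyClosed (Y.presheaf.stalk y)) ∧ IsSepClosed Y.functionField := by
  haveI : IsDomain (ULift.{u} ℤ) := MulEquiv.isDomain ℤ ULift.ringEquiv.toMulEquiv
  let P : Type u := MvPolynomial R (ULift.{u} ℤ)
  let θ : P →+* R := MvPolynomial.eval₂Hom ((Int.castRingHom R).comp ULift.ringEquiv.toRingHom) id
  have hθ : Function.Surjective θ := fun r => ⟨MvPolynomial.X r, MvPolynomial.eval₂Hom_X' _ _ _⟩
  let K := AlgebraicClosure (FractionRing P)
  haveI : Algebra.IsAlgebraic P K := (IsFractionRing.comap_isAlgebraic_iff (A := P) (K := FractionRing P) (C := K)).2 inferInstance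
  let D := integralClosure P K
  haveI : IsFractionRing D K := integralClosure.isFractionRing_of_algebraic (fun _ hx => by
    have : Function.Injective (algebraMap P K) := by
      rw [IsScalarTower.algebraMap_eq P (FractionRing P) K]
      exact (algebraMap (FractionRing P) K).injective.comp (IsFractionRing.injective P (FractionRing P))
    exact (map_eq_zero_iff _ this).1 hx)
  haveI : IsIntegrallyClosed D := (isIntegrallyClosed_iff_isIntegrallyClosedIn K).2 inferInstance
  let J : Ideal D := (RingHom.ker θ).map (algebraMap P D)
  have hJ : RingHom.ker θ ≤ RingHom.ker ((Ideal.Quotient.mk J).comp (algebraMap P D)) := fun a ha =>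
    Ideal.Quotient.eq_zero_iff_mem.2 (Ideal.mem_map_of_mem _ ha)
  let f : R →+* (D ⧸ J) := RingHom.liftOfSurjective θ hθ ⟨(Ideal.Quotient.mk J).comp (algebraMap P D), hJ⟩
  have hf : f.comp θ = (Ideal.Quotient.mk J).comp (algebraMap P D) := RingHom.liftOfSurjective_comp _ _ _
  have hfi : f.IsIntegral := by
    refine RingHom.IsIntegral.tower_top θ f ?_
    rw [hf]
    exact RingHom.IsIntegral.trans _ _ (algebraMap_isIntegral_iff.2 inferInstance)
      (RingHom.isIntegral_of_surjective _ Ideal.Quotient.mk_surjective)
  refine ⟨Spec (CommRingCat.of (D ⧸ J)), Spec (CommRingCat.of D), Spec.map (CommRingCat.ofHom f),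
    Spec.map (CommRingCat.ofHom (Ideal.Quotient.mk J)), inferInstance, inferInstance, ?_, ?_, ?_, ?_, ?_⟩
  · exact (IsIntegralHom.SpecMap_iff).2 hfi
  · haveI : Algebra.IsIntegral P D := inferInstance
    refine ⟨surjective_spec_of_lying_over ?_ θ hθ J rfl f hf⟩
    intro a b h
    exact (show Function.Injective (algebraMap P K) by
      rw [IsScalarTower.algebraMap_eq P (FractionRing P) K]
      exact (algebraMap (FractionRing P) K).injective.comp (IsFractionRing.injective P (FractionRing P))) (congrArg Subtype.val h)
  · exact IsClosedImmersion.spec_of_surjective _ Ideal.Quotient.mk_surjective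
  · exact isIntegrallyClosed_stalk_spec D
  · exact isSepClosed_functionField_spec D K

end Groth.Agent.GabberConstLib
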