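import Groth.Agent.GabberConstLib.Closed
import Groth.Agent.CechOpenLib.ConstIrred
import Mathlib.Topology.Sheaves.Skyscraper

/-!
# Constant sheaves on subspaces
-/

set_option autoImplicit false
set_option backward.isDefEq.respectTransparency false
set_option linter.style.haveILetI false
set_option maxHeartbeats 800000
set_option synthInstance.maxHeartbeats 400000

universe u

open CategoryTheory Limits Opposite TopologicalSpace CategoryTheory.Abelian

noncomputable section

namespace Groth.Agent.GabberConstLib

open CohBase TopDescent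

variable {Y T : TopCat.{u}}

/-- Inverse images of constant sheaves are constant. -/
def pullConstIso (f : Y ⟶ T) (A : Type u) [AddCommGroup A] :
    (CohTop.pull f).obj (CohTop.const T A) ≅ CohTop.const Y A :=
  (Adjunction.leftAdjointUniq
    (((constantSheafAdj (Opens.grothendieckTopology T) AddCommGrpCat.{u} (T := (⊤ : Opens T)) isTerminalTop).comp
      (TopCat.Sheaf.pullbackPushforwardAdjunction AddCommGrpCat.{u} f)).ofNatIsoRight
        (NatIso.ofComponents (fun F => Iso.refl _) (fun g => by rw [Iso.refl_hom, Iso.refl_hom, Category.comp_id, Category.id_comp]; rfl) :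
          CohTop.push f ⋙ (sheafSections (Opens.grothendieckTopology T) AddCommGrpCat.{u}).obj (op ⊤) ≅
            (sheafSections (Opens.grothendieckTopology Y) AddCommGrpCat.{u}).obj (op ⊤)))
    (constantSheafAdj (Opens.grothendieckTopology Y) AddCommGrpCat.{u} (T := (⊤ : Opens Y)) isTerminalTop)).app
    (AddCommGrpCat.of A)

/-- Cohomology is invariant under isomorphisms of sheaves. -/
def HIso {F G : CohTop.Ab T} (e : F ≅ G) (q : ℕ) : CohTop.H F q ≃ CohTop.H G q where
  toFun x := Sheaf.H.map e.hom q x
  invFun x := Sheaf.H.map e.inv q x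
  left_inv x := by simp only [Sheaf.H.map_apply, Ext.comp_assoc_of_second_deg_zero, Ext.mk₀_comp_mk₀, Iso.hom_inv_id, Ext.comp_mk₀_id]
  right_inv x := by simp only [Sheaf.H.map_apply, Ext.comp_assoc_of_second_deg_zero, Ext.mk₀_comp_mk₀, Iso.inv_hom_id, Ext.comp_mk₀_id]

/-- The cohomology of a constant sheaf on a closed subset. -/
theorem nonempty_H_P_equiv {Z : Set T} (hZ : IsClosed Z) (A : Type u) [AddCommGroup A] (q : ℕ) :
    Nonempty (HU (⊤ : Opens T) (P (CohTop.const T A) Z) q ≃ CohTop.H (CohTop.const (TopCat.of Z) A) q) := by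
  obtain ⟨e⟩ := CechOpenLib.push_bijective_cohomology (incl Z) (incl_closedEmbedding hZ)
    ((CohTop.pull (incl Z)).obj (CohTop.const T A)) q
  exact ⟨((HEquiv _ q).symm.toEquiv.trans e.symm.toEquiv).trans (HIso (pullConstIso (incl Z) A) q)⟩

/-- The unit of a surjective closed embedding is an isomorphism. -/
theorem isIso_unit (f : Y ⟶ T) (hf : Topology.IsClosedEmbedding f) (hs : Function.Surjective f) (F : CohTop.Ab T) :
    IsIso ((TopCat.Sheaf.pullbackPushforwardAdjunction AddCommGrpCat.{u} f).unit.app F) := by
  let A := TopCat.Sheaf.pullbackPushforwardAdjunction AddCommGrpCat.{u} f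
  haveI := ClosedEmb.isIso_counitAb hf
  haveI : IsIso (𝟙 ((CohTop.pull f).obj F)) := inferInstance
  haveI : IsIso ((CohTop.pull f).map (A.unit.app F)) :=
    IsIso.of_isIso_fac_right (A.left_triangle_components F)
  haveI : ∀ x : T, IsIso ((TopCat.Presheaf.stalkFunctor AddCommGrpCat.{u} x).map (A.unit.app F).hom) := fun x => by
    obtain ⟨y, rfl⟩ := hs x
    haveI : IsIso ((CohTop.pull f ⋙ ClosedEmb.stalkF y).map (A.unit.app F)) :=
      Functor.map_isIso (ClosedEmb.stalkF y) ((CohTop.pull f).map (A.unit.app F))
    exact (NatIso.isIso_map_iff (ClosedEmb.pullStalkIso f y) (A.unit.app F)).1 inferInstance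
  exact TopCat.Presheaf.isIso_of_stalkFunctor_map_iso (A.unit.app F)

/-- Cohomology of constant sheaves along a homeomorphism. -/
theorem nonempty_H_homeo_equiv (e : Y ≃ₜ T) (A : Type u) [AddCommGroup A] (q : ℕ) :
    Nonempty (CohTop.H (CohTop.const T A) q ≃ CohTop.H (CohTop.const Y A) q) := by
  let f : Y ⟶ T := TopCat.ofHom ⟨e, e.continuous⟩
  haveI := isIso_unit f e.isClosedEmbedding e.surjective (CohTop.const T A)
  obtain ⟨φ⟩ := CechOpenLib.push_bijective_cohomology f e.isClosedEmbedding ((CohTop.pull f).obj (CohTop.const T A)) q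
  exact ⟨((HIso (asIso ((TopCat.Sheaf.pullbackPushforwardAdjunction AddCommGrpCat.{u} f).unit.app (CohTop.const T A))) q).trans
    φ.symm.toEquiv).trans (HIso (pullConstIso f A) q)⟩

/-- Constant sheaves have no higher cohomology on preirreducible closed subsets. -/
theorem subsingleton_P_irreducible {Z : Set T} (hZ : IsClosed Z) (h : IsPreirreducible Z) (A : Type u)
    [AddCommGroup A] (q : ℕ) : Subsingleton (HU (⊤ : Opens T) (P (CohTop.const T A) Z) (q + 1)) := by
  rcases Z.eq_empty_or_nonempty with he | hne
  · have h0 : 𝟙 (P (CohTop.const T A) Z) = 0 := hom_ext_sec fun W s => by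
      rw [map_zero]
      exact push_sec_eq_zero _ (by simp [he]) _
    refine subsingleton_of_forall_eq 0 fun x => ?_
    rw [← Ext.comp_mk₀_id x, h0, Ext.mk₀_zero, Ext.comp_zero]
  · haveI : IrreducibleSpace (TopCat.of Z) :=
      { toPreirreducibleSpace := Subtype.preirreducibleSpace h, toNonempty := hne.to_subtype }
    obtain ⟨e⟩ := nonempty_H_P_equiv hZ A (q + 1)
    haveI := CechOpenLib.subsingleton_H_const (X := TopCat.of Z) A q
    exact e.subsingleton

/-- Vanishing in degree one on all closed subsets gives vanishing in all positive degrees. -/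
theorem subsingleton_H_const [CompactSpace T] [QuasiSeparatedSpace T] [PrespectralSpace T] (A : Type u) [AddCommGroup A]
    (h1 : ∀ Z : Set T, IsClosed Z → Subsingleton (CohTop.H (CohTop.const (TopCat.of Z) A) 1)) (q : ℕ) :
    Subsingleton (CohTop.H (CohTop.const T A) (q + 1)) := by
  have h := subsingleton_HU_closed (CohTop.const T A)
    (fun Z hZ => by
      obtain ⟨e⟩ := nonempty_H_P_equiv hZ A 1
      haveI := h1 Z hZ
      exact e.subsingleton)
    (fun Z hZ hi q => subsingleton_P_irreducible hZ hi A q) q Set.univ isClosed_univ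
  obtain ⟨e⟩ := nonempty_H_P_equiv (T := T) isClosed_univ A (q + 1)
  obtain ⟨e'⟩ := nonempty_H_homeo_equiv (Y := TopCat.of (Set.univ : Set T)) (T := T) (Homeomorph.Set.univ T) A (q + 1)
  haveI := h
  exact (e.symm.trans (Equiv.refl _) |> fun d => (e'.trans d).subsingleton)

end Groth.Agent.GabberConstLib
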